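import Groth.Agent.ShriekIndep7.Open
import Mathlib.AlgebraicGeometry.Morphisms.Immersion
import Groth.Agent.S1766

/-!
# Independence of the compactification
-/

set_option linter.style.haveILetI false
set_option backward.isDefEq.respectTransparency false
set_option backward.isDefEq.respectTransparency.types false
set_option maxHeartbeats 1000000

universe u

open CategoryTheory CategoryTheory.Limits AlgebraicGeometry

attribute [local instance] HasDerivedCategory.standard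

namespace Groth.Agent.ShriekIndep7

open Groth.Agent.KFlatLib Groth.Agent.PerfGen7

variable {X Y Z₁ Z : Scheme.{u}} [IsNoetherian Y] (p₁ : Z₁ ⟶ Y) [IsProper p₁] [DCoh.HasRpush p₁]
  (h₁ : DCoh.RpushPreservesQCoh p₁) {a₁ : DCoh.DQCoh Y ⥤ DCoh.DQCoh Z₁}
  (adj₁ : DCoh.RpushQ p₁ h₁ ⊣ a₁)

include adj₁ in
/-- A dominating compactification computes the same functor. -/
theorem nonempty_iso_of_dominate (p : Z ⟶ Y) [DCoh.HasRpush p] (h : DCoh.RpushPreservesQCoh p)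
    {a : DCoh.DQCoh Y ⥤ DCoh.DQCoh Z} (adj : DCoh.RpushQ p h ⊣ a) (π : Z ⟶ Z₁) [IsProper π]
    (hπ : π ≫ p₁ = p) (j₁ : X ⟶ Z₁) [IsOpenImmersion j₁] (j : X ⟶ Z) [IsOpenImmersion j]
    (hj : j ≫ π = j₁) :
    Nonempty (Dual3.bddι Y ⋙ a₁ ⋙ ObjectProperty.ι _ ⋙ rho j₁ ≅
      Dual3.bddι Y ⋙ a ⋙ ObjectProperty.ι _ ⋙ rho j) := by
  haveI := LocallyOfFiniteType.isLocallyNoetherian p₁
  haveI : CompactSpace Z₁ := QuasiCompact.compactSpace_of_compactSpace p₁
  haveI : IsNoetherian Z₁ := {}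
  haveI := LocallyOfFiniteType.isLocallyNoetherian π
  haveI : CompactSpace Z := QuasiCompact.compactSpace_of_compactSpace π
  haveI : IsNoetherian Z := {}
  haveI := hasRpush_scheme π
  have hπq : DCoh.RpushPreservesQCoh π := fun K hK => KFlatLib.isQCohD_rpush π hK
  haveI : (DCoh.RpushQ π hπq).IsLeftAdjoint := Groth.Agent.S1766.result _ _ π hπq
  let adjπ := Adjunction.ofIsLeftAdjoint (DCoh.RpushQ π hπq)
  haveI : DCoh.HasRpush (π ≫ p₁) := hπ ▸ inferInstance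
  obtain ⟨e⟩ : Nonempty (DCoh.RpushQ π hπq ⋙ DCoh.RpushQ p₁ h₁ ≅ DCoh.RpushQ p h) := by
    subst hπ
    obtain ⟨c⟩ := nonempty_rpush_comp π p₁
    exact ⟨NatIso.ofComponents (fun K => ObjectProperty.isoMk _ (c.app K.obj))
      fun g => ObjectProperty.hom_ext _ (c.hom.naturality g.hom)⟩
  let ea : a₁ ⋙ (DCoh.RpushQ π hπq).rightAdjoint ≅ a :=
    ((adjπ.comp adj₁).ofNatIsoLeft e).rightAdjointUniq adj
  obtain ⟨N, hN⟩ := exists_rightAdjoint_bound p₁ h₁ a₁ adj₁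
  let L : (Dual3.IsBddBelowQ Y).FullSubcategory ⥤ (Dual3.IsBddBelowQ Z₁).FullSubcategory :=
    ObjectProperty.lift _ (Dual3.bddι Y ⋙ a₁) fun K => by
      obtain ⟨c, hc⟩ := K.property
      haveI : K.obj.obj.IsGE c := hc
      refine ⟨c - 1 - N + 1, (DerivedCategory.isGE_iff _ _).2 fun i hi =>
        hN K.obj (c - 1) (fun k hk => DerivedCategory.isZero_of_isGE K.obj.obj c k (by omega)) i (by omega)⟩
  obtain ⟨θ⟩ := nonempty_rightAdjoint_open π hπq adjπ j j₁ hj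
  exact ⟨(Functor.isoWhiskerLeft L θ).symm ≪≫
    Functor.isoWhiskerLeft (Dual3.bddι Y) (Functor.isoWhiskerRight ea (ObjectProperty.ι _ ⋙ rho j))⟩

include adj₁ in
/-- Two compactifications compute the same functor. -/
theorem nonempty_shriek_indep {Z₂ : Scheme.{u}}
    (p₂ : Z₂ ⟶ Y) [IsProper p₂] [DCoh.HasRpush p₂] (h₂ : DCoh.RpushPreservesQCoh p₂)
    {a₂ : DCoh.DQCoh Y ⥤ DCoh.DQCoh Z₂} (adj₂ : DCoh.RpushQ p₂ h₂ ⊣ a₂)
    (j₁ : X ⟶ Z₁) [IsOpenImmersion j₁] (j₂ : X ⟶ Z₂) [IsOpenImmersion j₂]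
    (hj : j₁ ≫ p₁ = j₂ ≫ p₂) :
    Nonempty (Dual3.bddι Y ⋙ a₁ ⋙ ObjectProperty.ι _ ⋙ rho j₁ ≅
      Dual3.bddι Y ⋙ a₂ ⋙ ObjectProperty.ι _ ⋙ rho j₂) := by
  haveI := LocallyOfFiniteType.isLocallyNoetherian p₁
  haveI : CompactSpace Z₁ := QuasiCompact.compactSpace_of_compactSpace p₁
  haveI : IsNoetherian Z₁ := {}
  let P := Limits.pullback p₁ p₂
  haveI : IsProper (Limits.pullback.fst p₁ p₂) := MorphismProperty.pullback_fst _ _ inferInstance
  haveI : IsProper (Limits.pullback.snd p₁ p₂) := MorphismProperty.pullback_snd _ _ inferInstance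
  haveI := LocallyOfFiniteType.isLocallyNoetherian (Limits.pullback.fst p₁ p₂)
  haveI : CompactSpace P := QuasiCompact.compactSpace_of_compactSpace (Limits.pullback.fst p₁ p₂)
  haveI : IsNoetherian P := {}
  haveI : IsLocallyNoetherian X := isLocallyNoetherian_of_isOpenImmersion j₁
  haveI : CompactSpace X := QuasiCompact.compactSpace_of_compactSpace j₁
  let m : X ⟶ P := Limits.pullback.lift j₁ j₂ hj
  have hm1 : m ≫ Limits.pullback.fst p₁ p₂ = j₁ := Limits.pullback.lift_fst _ _ _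
  have hm2 : m ≫ Limits.pullback.snd p₁ p₂ = j₂ := Limits.pullback.lift_snd _ _ _
  haveI : IsImmersion (m ≫ Limits.pullback.fst p₁ p₂) := hm1.symm ▸ inferInstance
  haveI : IsImmersion m := IsImmersion.of_comp m (Limits.pullback.fst p₁ p₂)
  haveI : QuasiCompact m := inferInstance
  let j := m.toImage
  let π₁ := m.imageι ≫ Limits.pullback.fst p₁ p₂
  let π₂ := m.imageι ≫ Limits.pullback.snd p₁ p₂
  haveI : CompactSpace m.image := QuasiCompact.compactSpace_of_compactSpace m.imageι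
  haveI := LocallyOfFiniteType.isLocallyNoetherian m.imageι
  haveI : IsNoetherian m.image := {}
  haveI := hasRpush_scheme (π₁ ≫ p₁)
  have h : DCoh.RpushPreservesQCoh (π₁ ≫ p₁) := fun K hK => KFlatLib.isQCohD_rpush (π₁ ≫ p₁) hK
  haveI : (DCoh.RpushQ (π₁ ≫ p₁) h).IsLeftAdjoint := Groth.Agent.S1766.result _ _ (π₁ ≫ p₁) h
  let adj := Adjunction.ofIsLeftAdjoint (DCoh.RpushQ (π₁ ≫ p₁) h)
  obtain ⟨e₁⟩ := nonempty_iso_of_dominate p₁ h₁ adj₁ (π₁ ≫ p₁) h adj π₁ rfl j₁ j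
    (by simp [j, π₁, m])
  obtain ⟨e₂⟩ := nonempty_iso_of_dominate p₂ h₂ adj₂ (π₁ ≫ p₁) h adj π₂
    (by simp [π₁, π₂, Category.assoc, Limits.pullback.condition]) j₂ j (by simp [j, π₂, m])
  exact ⟨e₁ ≪≫ e₂.symm⟩

end Groth.Agent.ShriekIndep7
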