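import Groth.Agent.ShriekIndep7.Indep

/-!
# The right adjoint over an open of the base
-/

set_option linter.style.haveILetI false
set_option backward.isDefEq.respectTransparency false
set_option backward.isDefEq.respectTransparency.types false
set_option maxHeartbeats 1000000

universe u

open CategoryTheory CategoryTheory.Limits AlgebraicGeometry Pretriangulated

attribute [local instance] HasDerivedCategory.standard

namespace Groth.Agent.ShriekIndep7

open Groth.Agent.KFlatLib Groth.Agent.PerfGen7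

variable {Y V W W' : Scheme.{u}}

/-- Base change of `Rh_*` to an open of the base. -/
theorem nonempty_rpush_rho_comm [IsNoetherian W] (h : W ⟶ V) [QuasiCompact h] [QuasiSeparated h]
    [DCoh.HasRpush h] (i : Y ⟶ V) [IsOpenImmersion i] [QuasiCompact i] [DCoh.HasRpush i]
    (k : W' ⟶ W) [IsOpenImmersion k] (hk : Set.range k.base = h.base ⁻¹' Set.range i.base)
    [DCoh.HasRpush k] (q : W' ⟶ Y) [DCoh.HasRpush q] (w : k ≫ h = q ≫ i) :
    Nonempty (DCoh.Rpush h ⋙ rho i ≅ rho k ⋙ DCoh.Rpush q) := by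
  haveI := hasRpush_scheme (k ≫ h)
  haveI : DCoh.HasRpush (q ≫ i) := w ▸ inferInstance
  obtain ⟨c⟩ := nonempty_rpush_comp k h
  obtain ⟨c'⟩ := nonempty_rpush_comp q i
  obtain ⟨e⟩ : Nonempty (DCoh.Rpush k ⋙ DCoh.Rpush h ≅ DCoh.Rpush q ⋙ DCoh.Rpush i) := by
    refine ⟨c ≪≫ ?_ ≪≫ c'.symm⟩
    exact eqToIso (by congr 1)
  let α : DCoh.Rpush h ⋙ rho i ⟶ rho k ⋙ (DCoh.Rpush k ⋙ DCoh.Rpush h) ⋙ rho i :=
    Functor.whiskerRight (adjR k).unit (DCoh.Rpush h ⋙ rho i)
  haveI : ∀ M, IsIso (α.app M) := fun M => by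
    obtain ⟨C, g, d, hT, hC⟩ := exists_unit_triangle k M
    haveI := hasRpush_scheme (h ∣_ i.opensRange)
    haveI := PerfGen7.rpush_additive (h ∣_ i.opensRange)
    obtain ⟨b⟩ := nonempty_rpush_restrictD_iso h i.opensRange
    have h2 : IsZero ((rho i.opensRange.ι).obj ((DCoh.Rpush h).obj C)) :=
      ((DCoh.Rpush (h ∣_ i.opensRange)).map_isZero ((isZero_rho_iff _ C).2 (hC.mono (by
        rw [Scheme.Opens.range_ι, hk]
        exact subset_rfl)))).of_iso (b.app C)
    have h3 := (isZero_rho_iff _ _).1 h2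
    rw [Scheme.Opens.range_ι] at h3
    have h4 : IsZero ((rho i).obj ((DCoh.Rpush h).obj C)) := (isZero_rho_iff i _).2 h3
    exact (Triangle.isZero₃_iff_isIso₁ _ ((rho i).map_distinguished _
      ((DCoh.Rpush h).map_distinguished _ hT))).1 h4
  haveI := NatIso.isIso_of_isIso_app α
  haveI : IsIso (adjR i).counit := inferInstance
  exact ⟨asIso α ≪≫ Functor.isoWhiskerLeft (rho k) (Functor.isoWhiskerRight e (rho i)) ≪≫
    Functor.isoWhiskerLeft (rho k ⋙ DCoh.Rpush q) (asIso (adjR i).counit)⟩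

variable [IsNoetherian V] (h : W ⟶ V) [IsProper h] [DCoh.HasRpush h] (hh : DCoh.RpushPreservesQCoh h)
  {ah : DCoh.DQCoh V ⥤ DCoh.DQCoh W} (adjh : DCoh.RpushQ h hh ⊣ ah)
  (i : Y ⟶ V) [IsOpenImmersion i] (k : W' ⟶ W) [IsOpenImmersion k]
  (hk : Set.range k.base = h.base ⁻¹' Set.range i.base)
  (q : W' ⟶ Y) [DCoh.HasRpush q] (w : k ≫ h = q ≫ i) (hq : DCoh.RpushPreservesQCoh q)
  {aq : DCoh.DQCoh Y ⥤ DCoh.DQCoh W'} (adjq : DCoh.RpushQ q hq ⊣ aq)

include adjh adjq hk w in
/-- `a(M)|_{h⁻¹Y} ≅ a'(M|_Y)`, naturally in bounded below `M`. -/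
theorem nonempty_rightAdjoint_restrict :
    Nonempty (Dual3.bddι V ⋙ ah ⋙ ObjectProperty.ι _ ⋙ rho k ≅
      Dual3.bddι V ⋙ ShriekSupp7.restrictQ i ⋙ aq ⋙ ObjectProperty.ι _) := by
  haveI := LocallyOfFiniteType.isLocallyNoetherian h
  haveI : CompactSpace W := QuasiCompact.compactSpace_of_compactSpace h
  haveI : IsNoetherian W := {}
  haveI : QuasiCompact i := inferInstance
  haveI : QuasiCompact k := inferInstance
  haveI := hasRpush_scheme i
  haveI := hasRpush_scheme k
  have hi : DCoh.RpushPreservesQCoh i := fun K hK => KFlatLib.isQCohD_rpush i hK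
  have hk' : DCoh.RpushPreservesQCoh k := fun K hK => KFlatLib.isQCohD_rpush k hK
  obtain ⟨e⟩ := nonempty_rpush_rho_comm h i k hk q w
  let eQ : DCoh.RpushQ h hh ⋙ ShriekSupp7.restrictQ i ≅
      ShriekSupp7.restrictQ k ⋙ DCoh.RpushQ q hq :=
    NatIso.ofComponents (fun K => ObjectProperty.isoMk _ (e.app K.obj))
      fun g => ObjectProperty.hom_ext _ (e.hom.naturality g.hom)
  let ea : DCoh.RpushQ i hi ⋙ ah ≅ aq ⋙ DCoh.RpushQ k hk' :=
    ((adjh.comp (ShriekSupp7.adjRQ i hi)).ofNatIsoLeft eQ).rightAdjointUniq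
      ((ShriekSupp7.adjRQ k hk').comp adjq)
  let u := (ShriekSupp7.adjRQ i hi).unit
  let α := Functor.whiskerLeft (Dual3.bddι V)
    (Functor.whiskerRight (Functor.whiskerRight u ah) (ObjectProperty.ι _ ⋙ rho k))
  haveI : ∀ K, IsIso (α.app K) := fun K => by
    obtain ⟨c, hc⟩ := K.property
    haveI : K.obj.obj.IsGE c := hc
    obtain ⟨_, _⟩ := ShriekTensor7.exists_commShift_rightAdjoint h hh adjh
    obtain ⟨C, g, d, hT⟩ := distinguished_cocone_triangle (u.app K.obj)
    have hT' := (ObjectProperty.ι (DCoh.IsQCohD (X := V))).map_distinguished _ hT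
    have hCs : Supp C.obj ((i.opensRange : Set V)ᶜ) := (isZero_rho_iff i C.obj).1
      ((Triangle.isZero₃_iff_isIso₁ _ ((rho i).map_distinguished _ hT')).2
        (show IsIso ((rho i).map (u.app K.obj).hom) from isIso_rho_unitQ i hi K.obj))
    haveI : ((rho i).obj K.obj.obj).IsGE c := (DerivedCategory.isGE_iff _ _).2 fun n hn =>
      (Functor.map_isZero (Scheme.Modules.restrictFunctor i)
        (DerivedCategory.isZero_of_isGE K.obj.obj c n hn)).of_iso (restrictHDIso i K.obj.obj n)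
    haveI : C.obj.IsGE (c - 1) := (DerivedCategory.isGE_iff _ _).2 fun n hn => by
      refine (DerivedCategory.HomologySequence.exact₃ _ hT' n (n + 1) rfl).isZero_of_both_zeros
        (IsZero.eq_of_src ?_ _ _)
        ((DerivedCategory.isZero_of_isGE K.obj.obj c (n + 1) (by omega)).eq_of_tgt _ _)
      exact isZero_hd_rpush_of_lt i ((rho i).obj K.obj.obj) c n (by omega)
    have haC := ShriekSupp7.supp_rightAdjoint h hh adjh i.opensRange C (c - 1) hCs
    have hz : IsZero ((rho k).obj (ah.obj C).obj) := (isZero_rho_iff k _).2 (haC.mono (by rw [hk]; exact subset_rfl))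
    exact (Triangle.isZero₃_iff_isIso₁ _ ((rho k).map_distinguished _
      ((ObjectProperty.ι _).map_distinguished _ (ah.map_distinguished _ hT)))).1 hz
  haveI := NatIso.isIso_of_isIso_app α
  haveI : IsIso (adjR k).counit := inferInstance
  exact ⟨asIso α ≪≫
    Functor.isoWhiskerLeft (Dual3.bddι V ⋙ ShriekSupp7.restrictQ i)
      (Functor.isoWhiskerRight ea (ObjectProperty.ι _ ⋙ rho k) ≪≫
        Functor.isoWhiskerLeft (aq ⋙ ObjectProperty.ι _) (asIso (adjR k).counit))⟩

end Groth.Agent.ShriekIndep7
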