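import Groth.Agent.ShriekIndep7.Local
import Groth.Agent.KFlatLib.Scheme.RightAdjBound
import Groth.Prelude.Def_Dual3

/-!
# `a` over an open where the proper map is an open immersion
-/

set_option linter.style.haveILetI false
set_option backward.isDefEq.respectTransparency false
set_option backward.isDefEq.respectTransparency.types false
set_option maxHeartbeats 1000000

universe u

open CategoryTheory CategoryTheory.Limits AlgebraicGeometry Pretriangulated

attribute [local instance] HasDerivedCategory.standard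

namespace Groth.Agent.ShriekIndep7

open Groth.Agent.KFlatLib Groth.Agent.PerfGen7

variable {X Y Z : Scheme.{u}}

/-- An open section of a separated morphism is closed in the preimage. -/
theorem exists_clopen (p : Z ⟶ Y) [IsSeparated p] (j : X ⟶ Z) [IsOpenImmersion j] (f : X ⟶ Y)
    [IsOpenImmersion f] (fac : j ≫ p = f) :
    ∃ U' : Z.Opens, Disjoint (j.opensRange : Set Z) (U' : Set Z) ∧
      ((p ⁻¹ᵁ f.opensRange : Z.Opens) : Set Z) = (j.opensRange : Set Z) ∪ U' := by
  let V := p ⁻¹ᵁ f.opensRange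
  have hj : Set.range j.base ⊆ Set.range V.ι.base := by
    rw [Scheme.Opens.range_ι]
    rintro _ ⟨x, rfl⟩
    exact ⟨x, by rw [← fac]; rfl⟩
  let l := IsOpenImmersion.lift V.ι j hj
  have hl : l ≫ V.ι = j := IsOpenImmersion.lift_fac _ _ _
  let q := IsOpenImmersion.lift f (V.ι ≫ p) (by rintro _ ⟨v, rfl⟩; exact v.2)
  have hq : q ≫ f = V.ι ≫ p := IsOpenImmersion.lift_fac _ _ _
  haveI : IsSeparated (q ≫ f) := by rw [hq]; infer_instance
  haveI : IsSeparated q := IsSeparated.of_comp q f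
  haveI : IsClosedImmersion (l ≫ q) := by
    rw [show l ≫ q = 𝟙 X from (cancel_mono f).1 (by rw [Category.assoc, hq, reassoc_of% hl, fac,
      Category.id_comp])]
    infer_instance
  haveI : IsClosedImmersion l := IsClosedImmersion.of_comp l q
  let W : V.toScheme.Opens := ⟨(Set.range l.base)ᶜ, l.isClosedEmbedding.isClosed_range.isOpen_compl⟩
  refine ⟨V.ι ''ᵁ W, Set.disjoint_left.2 ?_, ?_⟩
  · rintro _ ⟨x, rfl⟩ ⟨v, hv, hvx⟩
    refine hv ⟨x, V.ι.isOpenEmbedding.injective ?_⟩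
    exact (show V.ι (l x) = j x by rw [← hl]; rfl).trans hvx.symm
  · ext z
    constructor
    · intro hz
      by_cases h : z ∈ Set.range j.base
      · exact Or.inl h
      · refine Or.inr ⟨⟨z, hz⟩, fun ⟨x, hx⟩ => h ⟨x, ?_⟩, rfl⟩
        rw [← hl]
        exact congrArg Subtype.val hx
    · rintro (⟨x, rfl⟩ | ⟨v, -, rfl⟩)
      · exact ⟨x, by rw [← fac]; rfl⟩
      · exact v.2

variable [IsNoetherian Y] (p : Z ⟶ Y) [IsProper p] [DCoh.HasRpush p] (hp : DCoh.RpushPreservesQCoh p)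
  {a : DCoh.DQCoh Y ⥤ DCoh.DQCoh Z} (adj : DCoh.RpushQ p hp ⊣ a)
  (j : X ⟶ Z) [IsOpenImmersion j] (f : X ⟶ Y) [IsOpenImmersion f] (fac : j ≫ p = f)
  [DCoh.HasRpush j] [DCoh.HasRpush f] (hj : DCoh.RpushPreservesQCoh j) (hf : DCoh.RpushPreservesQCoh f)

/-- The natural map `Rj_* B ⟶ a(Rf_* B)`. -/
noncomputable def phi (e : DCoh.RpushQ j hj ⋙ DCoh.RpushQ p hp ≅ DCoh.RpushQ f hf) :
    DCoh.RpushQ j hj ⟶ DCoh.RpushQ f hf ⋙ a where
  app B := adj.homEquiv _ _ (e.hom.app B)
  naturality A B g := by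
    show _ = adj.homEquiv _ _ (e.hom.app A) ≫ a.map ((DCoh.RpushQ f hf).map g)
    rw [← adj.homEquiv_naturality_left, ← adj.homEquiv_naturality_right]
    exact congrArg _ (e.hom.naturality g)

include fac in
/-- It is invertible on `X`. -/
theorem isIso_rho_phi (e : DCoh.RpushQ j hj ⋙ DCoh.RpushQ p hp ≅ DCoh.RpushQ f hf)
    (B : DCoh.DQCoh X) : IsIso ((rho j).map ((phi p hp adj j f hj hf e).app B).hom) := by
  haveI := LocallyOfFiniteType.isLocallyNoetherian p
  haveI : CompactSpace Z := QuasiCompact.compactSpace_of_compactSpace p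
  haveI : IsNoetherian Z := {}
  haveI : QuasiCompact j := inferInstance
  haveI : QuasiCompact f := inferInstance
  let φ := (phi p hp adj j f hj hf e).app B
  obtain ⟨U', hd, hV⟩ := exists_clopen p j f fac
  let V := p ⁻¹ᵁ f.opensRange
  have hVj : Set.range V.ι.base ⊇ Set.range j.base := by
    rw [Scheme.Opens.range_ι]
    exact fun z hz => hV.ge (Or.inl hz)
  have hUr : Set.range j.opensRange.ι.base = Set.range j.base := by
    rw [Scheme.Opens.range_ι]; rfl
  have hρ : ∀ A : DCoh.D Z, IsZero ((rho V.ι).obj A) → IsZero ((rho j).obj A) := fun A hA =>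
    (isZero_rho_iff j A).2 (((isZero_rho_iff V.ι A).1 hA).mono (Set.compl_subset_compl.2 hVj))
  have hlj : ∀ A : DCoh.D X, Loc V ((DCoh.Rpush j).obj A) := fun A M _ hz ψ =>
    ((adjR j).homEquiv M A).symm.injective ((hρ M hz).eq_of_src _ _)
  have hla : Loc V (a.obj ((DCoh.RpushQ f hf).obj B)).obj := fun M hM hz ψ => by
    have h1 : IsZero ((rho f).obj ((DCoh.Rpush p).obj M)) := by
      haveI := hasRpush_scheme (p ∣_ f.opensRange)
      haveI := PerfGen7.rpush_additive (p ∣_ f.opensRange)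
      obtain ⟨c⟩ := nonempty_rpush_restrictD_iso p f.opensRange
      have h2 : IsZero ((rho f.opensRange.ι).obj ((DCoh.Rpush p).obj M)) :=
        ((DCoh.Rpush (p ∣_ f.opensRange)).map_isZero hz).of_iso (c.app M)
      have h3 := (isZero_rho_iff _ _).1 h2
      rw [Scheme.Opens.range_ι] at h3
      exact (isZero_rho_iff f _).2 h3
    let g : (⟨M, hM⟩ : DCoh.DQCoh Z) ⟶ a.obj ((DCoh.RpushQ f hf).obj B) := ObjectProperty.homMk ψ
    have hg : ∀ g g' : (⟨M, hM⟩ : DCoh.DQCoh Z) ⟶ a.obj ((DCoh.RpushQ f hf).obj B), g = g' := fun g g' =>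
      (adj.homEquiv _ _).symm.injective (ObjectProperty.hom_ext _
        (((adjR f).homEquiv _ _).symm.injective (h1.eq_of_src _ _)))
    exact congrArg (fun t => t.hom) (hg g (ObjectProperty.homMk 0))
  let Fj := (adjR j).fullyFaithfulROfIsIsoCounit
  let Ff := (adjR f).fullyFaithfulROfIsIsoCounit
  have hb : ∀ A : DCoh.DQCoh X, Function.Bijective
      fun g : (DCoh.RpushQ j hj).obj A ⟶ (DCoh.RpushQ j hj).obj B => g ≫ φ := by
    intro A
    have key : ∀ h : A ⟶ B, (DCoh.RpushQ j hj).map h ≫ φ =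
        adj.homEquiv _ _ (e.hom.app A ≫ (DCoh.RpushQ f hf).map h) := fun h => by
      show _ ≫ adj.homEquiv _ _ (e.hom.app B) = _
      rw [← adj.homEquiv_naturality_left]
      exact congrArg _ (e.hom.naturality h)
    have hsurj : ∀ g : (DCoh.RpushQ j hj).obj A ⟶ (DCoh.RpushQ j hj).obj B,
        ∃ h, (DCoh.RpushQ j hj).map h = g := fun g =>
      ⟨ObjectProperty.homMk (Fj.preimage g.hom), ObjectProperty.hom_ext _ (Fj.map_preimage g.hom)⟩
    refine ⟨fun g g' hgg => ?_, fun y => ?_⟩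
    · obtain ⟨h, rfl⟩ := hsurj g
      obtain ⟨h', rfl⟩ := hsurj g'
      simp only [key] at hgg
      have h2 := congrArg (fun t => t.hom) ((cancel_epi (e.hom.app A)).1 ((adj.homEquiv _ _).injective hgg))
      exact congrArg _ (ObjectProperty.hom_ext _ (Ff.map_injective h2))
    · let z := e.inv.app A ≫ (adj.homEquiv _ _).symm y
      refine ⟨(DCoh.RpushQ j hj).map (ObjectProperty.homMk (Ff.preimage z.hom)), (key _).trans ?_⟩
      rw [show (DCoh.RpushQ f hf).map (ObjectProperty.homMk (Ff.preimage z.hom)) = z from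
        ObjectProperty.hom_ext _ (Ff.map_preimage z.hom)]
      simp [z]
  obtain ⟨C, g₀, d, hT⟩ := distinguished_cocone_triangle φ.hom
  have hCq : DCoh.IsQCohD C := KFlatLib.isQCohD_obj₃ hT ((DCoh.RpushQ j hj).obj B).property
    (a.obj ((DCoh.RpushQ f hf).obj B)).property
  have hlC : Loc V C := loc_obj₃ hT (hlj B.obj) hla
  have hzero : ∀ (A : DCoh.DQCoh X) (g : (DCoh.Rpush j).obj A.obj ⟶ C), g = 0 := by
    intro A g
    let R := (DCoh.Rpush j).obj A.obj
    let cI := (shiftFunctorCompIsoId (DCoh.D Z) (-1 : ℤ) 1 (by omega)).app R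
    obtain ⟨ψ, hψ⟩ := (shiftFunctor (DCoh.D Z) (1 : ℤ)).map_surjective (cI.hom ≫ g ≫ d)
    have h0 : ψ ≫ φ.hom = 0 := (shiftFunctor (DCoh.D Z) (1 : ℤ)).map_injective (by
      rw [Functor.map_comp, hψ, Functor.map_zero, Category.assoc, Category.assoc,
        show d ≫ φ.hom⟦(1 : ℤ)⟧' = 0 from comp_distTriang_mor_zero₃₁ _ hT, comp_zero, comp_zero])
    let A' : DCoh.DQCoh X := ⟨A.obj⟦(-1 : ℤ)⟧, KFlatLib.isQCohD_shift A.property (-1)⟩
    let s := ((DCoh.Rpush j).commShiftIso (-1 : ℤ)).app A.obj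
    have h1 : (ObjectProperty.homMk (s.hom ≫ ψ) : (DCoh.RpushQ j hj).obj A' ⟶ _) =
        ObjectProperty.homMk 0 := (hb A').1 (ObjectProperty.hom_ext _ (by
      show (s.hom ≫ ψ) ≫ φ.hom = 0 ≫ φ.hom
      rw [Category.assoc, h0, comp_zero, zero_comp]))
    have h2 : ψ = 0 := (cancel_epi s.hom).1 ((congrArg (fun t => t.hom) h1).trans comp_zero.symm)
    rw [h2, Functor.map_zero] at hψ
    have h3 : g ≫ d = 0 := (cancel_epi cI.hom).1 (hψ.symm.trans comp_zero.symm)
    obtain ⟨h, hh⟩ := Triangle.coyoneda_exact₃ _ hT g h3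
    obtain ⟨k, hk⟩ := (hb A).2 (ObjectProperty.homMk h)
    have hk' : k.hom ≫ φ.hom = h := congrArg (fun t => t.hom) hk
    rw [hh, ← hk']
    show (k.hom ≫ φ.hom) ≫ g₀ = 0
    rw [Category.assoc, show φ.hom ≫ g₀ = 0 from comp_distTriang_mor_zero₁₂ _ hT, comp_zero]
  obtain ⟨E, g₁, d₁, hU, hEs⟩ := exists_unit_triangle j C
  let T := (DCoh.Rpush j).obj ((rho j).obj C)
  let A : DCoh.DQCoh X := ⟨(rho j).obj C, KFlatLib.isQCohD_rho j hCq⟩
  have hTE : g₁ = 0 := by
    refine eq_zero_of_clopen hd hV (T := T) (E := E) (isZero_rho_rpush_of_disjoint j U' ?_ _) ?_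
      (loc_obj₃ hU hlC (hlj _)) (KFlatLib.isQCohD_obj₃ hU hCq (hj _ A.property)) g₁
    · exact fun x hx => Set.disjoint_left.1 hd ⟨x, rfl⟩ hx
    · exact (isZero_rho_iff _ E).2 (hUr ▸ hEs)
  obtain ⟨s, hs⟩ := Triangle.coyoneda_exact₂ _ hU (𝟙 T) (by
    show 𝟙 T ≫ g₁ = 0
    rw [hTE, comp_zero])
  have hTz : IsZero T := (IsZero.iff_id_eq_zero _).2 (by
    rw [hzero A s, zero_comp] at hs
    exact hs)
  have hCz : IsZero ((rho j).obj C) := by
    haveI := isIso_rho_unit j C
    exact ((rho j).map_isZero hTz).of_iso (asIso ((rho j).map ((adjR j).unit.app C)))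
  exact (Triangle.isZero₃_iff_isIso₁ _ ((rho j).map_distinguished _ hT)).1 hCz

omit [AlgebraicGeometry.IsNoetherian Y] in
/-- The unit of `restrictQ ⊣ Rf_*` is invertible on `X`. -/
theorem isIso_rho_unitQ (f : X ⟶ Y) [IsOpenImmersion f] [DCoh.HasRpush f]
    (hf : DCoh.RpushPreservesQCoh f) (K : DCoh.DQCoh Y) :
    IsIso ((rho f).map ((ShriekSupp7.adjRQ f hf).unit.app K).hom) := by
  have h : ((ShriekSupp7.adjRQ f hf).unit.app K).hom = (adjR f).unit.app K.obj :=
    (Adjunction.map_restrictFullyFaithful_unit_app (L := ShriekSupp7.restrictQ f)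
      (R := DCoh.RpushQ f hf) (adjR f) (ObjectProperty.fullyFaithfulι _)
      (ObjectProperty.fullyFaithfulι _) (Iso.refl _) (Iso.refl _) K).trans (by
      show _ ≫ (DCoh.Rpush f).map (𝟙 _) ≫ 𝟙 _ = _
      rw [CategoryTheory.Functor.map_id, Category.comp_id, Category.comp_id]
      rfl)
  rw [h]
  exact isIso_rho_unit f _

include hp adj in
omit [DCoh.HasRpush j] [DCoh.HasRpush f] in
/-- `a(K)|_X ≅ K|_X`, naturally in bounded below `K`. -/
theorem nonempty_rightAdjoint_open (fac : j ≫ p = f) :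
    Nonempty (Dual3.bddι Y ⋙ a ⋙ ObjectProperty.ι _ ⋙ rho j ≅
      Dual3.bddι Y ⋙ ObjectProperty.ι _ ⋙ rho f) := by
  haveI := LocallyOfFiniteType.isLocallyNoetherian p
  haveI : CompactSpace Z := QuasiCompact.compactSpace_of_compactSpace p
  haveI : IsNoetherian Z := {}
  haveI : QuasiCompact j := inferInstance
  haveI : QuasiCompact f := inferInstance
  haveI := hasRpush_scheme j
  haveI := hasRpush_scheme f
  have hj : DCoh.RpushPreservesQCoh j := fun K hK => KFlatLib.isQCohD_rpush j hK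
  have hf : DCoh.RpushPreservesQCoh f := fun K hK => KFlatLib.isQCohD_rpush f hK
  haveI : DCoh.HasRpush (j ≫ p) := fac ▸ inferInstance
  obtain ⟨e⟩ : Nonempty (DCoh.RpushQ j hj ⋙ DCoh.RpushQ p hp ≅ DCoh.RpushQ f hf) := by
    subst fac
    obtain ⟨c⟩ := nonempty_rpush_comp j p
    exact ⟨NatIso.ofComponents (fun K => ObjectProperty.isoMk _ (c.app K.obj))
      fun g => ObjectProperty.hom_ext _ (c.hom.naturality g.hom)⟩
  let rQ := ShriekSupp7.restrictQ f
  let u : 𝟭 (DCoh.DQCoh Y) ⟶ rQ ⋙ DCoh.RpushQ f hf := (ShriekSupp7.adjRQ f hf).unit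
  let α := Functor.whiskerLeft (Dual3.bddι Y)
    (Functor.whiskerRight (Functor.whiskerRight u a) (ObjectProperty.ι _ ⋙ rho j))
  let β := Functor.whiskerLeft (Dual3.bddι Y ⋙ rQ)
    (Functor.whiskerRight (phi p hp adj j f hj hf e) (ObjectProperty.ι _ ⋙ rho j))
  haveI : ∀ K, IsIso (β.app K) := fun K => isIso_rho_phi p hp adj j f fac hj hf e _
  haveI : ∀ K, IsIso (α.app K) := fun K => by
    obtain ⟨c, hc⟩ := K.property
    haveI : K.obj.obj.IsGE c := hc
    obtain ⟨_, _⟩ := ShriekTensor7.exists_commShift_rightAdjoint p hp adj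
    obtain ⟨C, g, d, hT⟩ := distinguished_cocone_triangle (u.app K.obj)
    have hT' := (ObjectProperty.ι (DCoh.IsQCohD (X := Y))).map_distinguished _ hT
    haveI : IsIso ((rho f).map (u.app K.obj).hom) := isIso_rho_unitQ f hf K.obj
    have hCs : Supp C.obj ((f.opensRange : Set Y)ᶜ) := (isZero_rho_iff f C.obj).1
      ((Triangle.isZero₃_iff_isIso₁ _ ((rho f).map_distinguished _ hT')).2
        (show IsIso ((rho f).map (u.app K.obj).hom) from inferInstance))
    haveI hG : ((rho f).obj K.obj.obj).IsGE c := (DerivedCategory.isGE_iff _ _).2 fun i hi =>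
      (Functor.map_isZero (Scheme.Modules.restrictFunctor f)
        (DerivedCategory.isZero_of_isGE K.obj.obj c i hi)).of_iso (restrictHDIso f K.obj.obj i)
    haveI : C.obj.IsGE (c - 1) := (DerivedCategory.isGE_iff _ _).2 fun i hi => by
      refine (DerivedCategory.HomologySequence.exact₃ _ hT' i (i + 1) rfl).isZero_of_both_zeros
        (IsZero.eq_of_src ?_ _ _)
        ((DerivedCategory.isZero_of_isGE K.obj.obj c (i + 1) (by omega)).eq_of_tgt _ _)
      exact isZero_hd_rpush_of_lt f ((rho f).obj K.obj.obj) c i (by omega)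
    have haC := ShriekSupp7.supp_rightAdjoint p hp adj f.opensRange C (c - 1) hCs
    have hz : IsZero ((rho j).obj (a.obj C).obj) := (isZero_rho_iff j _).2
      (haC.mono (Set.compl_subset_compl.2 (by
        rintro _ ⟨x, rfl⟩
        exact ⟨x, by rw [← fac]; rfl⟩)))
    exact (Triangle.isZero₃_iff_isIso₁ _ ((rho j).map_distinguished _
      ((ObjectProperty.ι _).map_distinguished _ (a.map_distinguished _ hT)))).1 hz
  haveI := NatIso.isIso_of_isIso_app α
  haveI := NatIso.isIso_of_isIso_app β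
  haveI : IsIso (adjR j).counit := inferInstance
  exact ⟨asIso α ≪≫ (asIso β).symm ≪≫
    Functor.isoWhiskerLeft (Dual3.bddι Y ⋙ rQ ⋙ ObjectProperty.ι _) (asIso (adjR j).counit)⟩

end Groth.Agent.ShriekIndep7
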