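import Groth.Agent.ShriekIndep7.Restrict
import Groth.Agent.RHomO7.Finite

/-!
# Composition of twisted inverse images
-/

set_option linter.style.haveILetI false
set_option backward.isDefEq.respectTransparency false
set_option backward.isDefEq.respectTransparency.types false
set_option maxHeartbeats 1000000

universe u

open CategoryTheory CategoryTheory.Limits AlgebraicGeometry

attribute [local instance] HasDerivedCategory.standard

namespace Groth.Agent.ShriekIndep7

open Groth.Agent.KFlatLib Groth.Agent.PerfGen7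

variable {X Y Z Xf Yg Xc : Scheme.{u}} [IsNoetherian Y] [IsNoetherian Z]
  (pf : Xf ⟶ Y) [IsProper pf] [DCoh.HasRpush pf] (hf : DCoh.RpushPreservesQCoh pf)
  {a : DCoh.DQCoh Y ⥤ DCoh.DQCoh Xf} (adjf : DCoh.RpushQ pf hf ⊣ a)
  (pg : Yg ⟶ Z) [IsProper pg] [DCoh.HasRpush pg] (hg : DCoh.RpushPreservesQCoh pg)
  {b : DCoh.DQCoh Z ⥤ DCoh.DQCoh Yg} (adjg : DCoh.RpushQ pg hg ⊣ b)
  (pc : Xc ⟶ Z) [IsProper pc] [DCoh.HasRpush pc] (hc : DCoh.RpushPreservesQCoh pc)
  {c : DCoh.DQCoh Z ⥤ DCoh.DQCoh Xc} (adjc : DCoh.RpushQ pc hc ⊣ c)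
  (jf : X ⟶ Xf) [IsOpenImmersion jf] (jg : Y ⟶ Yg) [IsOpenImmersion jg]
  (jc : X ⟶ Xc) [IsOpenImmersion jc]

include adjf adjg adjc in
/-- Upper shriek of a composite. -/
theorem nonempty_shriek_comp (hfac : jc ≫ pc = (jf ≫ pf) ≫ jg ≫ pg) :
    Nonempty (Dual3.bddι Z ⋙ c ⋙ ObjectProperty.ι _ ⋙ rho jc ≅
      Dual3.bddι Z ⋙ b ⋙ ShriekSupp7.restrictQ jg ⋙ a ⋙ ObjectProperty.ι _ ⋙ rho jf) := by
  haveI := LocallyOfFiniteType.isLocallyNoetherian pc
  haveI : CompactSpace Xc := QuasiCompact.compactSpace_of_compactSpace pc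
  haveI : IsNoetherian Xc := {}
  haveI := LocallyOfFiniteType.isLocallyNoetherian pg
  haveI : CompactSpace Yg := QuasiCompact.compactSpace_of_compactSpace pg
  haveI : IsNoetherian Yg := {}
  let f := jf ≫ pf
  let P := Limits.pullback pc pg
  haveI : IsProper (Limits.pullback.fst pc pg) := MorphismProperty.pullback_fst _ _ inferInstance
  haveI : IsProper (Limits.pullback.snd pc pg) := MorphismProperty.pullback_snd _ _ inferInstance
  haveI := LocallyOfFiniteType.isLocallyNoetherian (Limits.pullback.fst pc pg)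
  haveI : CompactSpace P := QuasiCompact.compactSpace_of_compactSpace (Limits.pullback.fst pc pg)
  haveI : IsNoetherian P := {}
  haveI : IsLocallyNoetherian X := isLocallyNoetherian_of_isOpenImmersion jc
  haveI : CompactSpace X := QuasiCompact.compactSpace_of_compactSpace jc
  let m : X ⟶ P := Limits.pullback.lift jc (f ≫ jg) (by simp [f, hfac])
  have hm : m ≫ Limits.pullback.fst pc pg = jc := Limits.pullback.lift_fst _ _ _
  haveI : IsImmersion (m ≫ Limits.pullback.fst pc pg) := hm.symm ▸ inferInstance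
  haveI : IsImmersion m := IsImmersion.of_comp m (Limits.pullback.fst pc pg)
  haveI : QuasiCompact m := inferInstance
  let j := m.toImage
  let π := m.imageι ≫ Limits.pullback.fst pc pg
  let h := m.imageι ≫ Limits.pullback.snd pc pg
  haveI : CompactSpace m.image := QuasiCompact.compactSpace_of_compactSpace m.imageι
  haveI := LocallyOfFiniteType.isLocallyNoetherian m.imageι
  haveI : IsNoetherian m.image := {}
  have hjh : j ≫ h = f ≫ jg := by simp [j, h, m]
  have hjπ : j ≫ π = jc := by simp [j, π, m]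
  have hπh : π ≫ pc = h ≫ pg := by simp [π, h, Category.assoc, Limits.pullback.condition]
  let Q := Limits.pullback h jg
  let k := Limits.pullback.fst h jg
  let q := Limits.pullback.snd h jg
  haveI : IsProper q := MorphismProperty.pullback_snd _ _ inferInstance
  have hk : Set.range k.base = h.base ⁻¹' Set.range jg.base := by
    exact IsOpenImmersion.range_pullbackFst jg h
  let j' : X ⟶ Q := Limits.pullback.lift j f hjh
  have hj'k : j' ≫ k = j := Limits.pullback.lift_fst _ _ _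
  have hj'q : j' ≫ q = f := Limits.pullback.lift_snd _ _ _
  haveI : IsOpenImmersion (j' ≫ k) := hj'k.symm ▸ inferInstance
  haveI : IsOpenImmersion j' := IsOpenImmersion.of_comp j' k
  haveI := LocallyOfFiniteType.isLocallyNoetherian q
  haveI : CompactSpace Q := QuasiCompact.compactSpace_of_compactSpace q
  haveI : IsNoetherian Q := {}
  haveI := hasRpush_scheme h
  haveI := hasRpush_scheme q
  haveI := hasRpush_scheme (π ≫ pc)
  have hh : DCoh.RpushPreservesQCoh h := fun K hK => KFlatLib.isQCohD_rpush h hK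
  have hq : DCoh.RpushPreservesQCoh q := fun K hK => KFlatLib.isQCohD_rpush q hK
  have hπ : DCoh.RpushPreservesQCoh (π ≫ pc) := fun K hK => KFlatLib.isQCohD_rpush _ hK
  haveI : (DCoh.RpushQ h hh).IsLeftAdjoint := Groth.Agent.S1766.result _ _ h hh
  haveI : (DCoh.RpushQ q hq).IsLeftAdjoint := Groth.Agent.S1766.result _ _ q hq
  let adjh := Adjunction.ofIsLeftAdjoint (DCoh.RpushQ h hh)
  let adjq := Adjunction.ofIsLeftAdjoint (DCoh.RpushQ q hq)
  let ah := (DCoh.RpushQ h hh).rightAdjoint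
  let aq := (DCoh.RpushQ q hq).rightAdjoint
  obtain ⟨e⟩ : Nonempty (DCoh.RpushQ h hh ⋙ DCoh.RpushQ pg hg ≅ DCoh.RpushQ (π ≫ pc) hπ) := by
    haveI : DCoh.HasRpush (h ≫ pg) := hπh ▸ inferInstance
    obtain ⟨cc⟩ := nonempty_rpush_comp h pg
    let cc' : DCoh.Rpush h ⋙ DCoh.Rpush pg ≅ DCoh.Rpush (π ≫ pc) := cc ≪≫ eqToIso (by congr 1; exact hπh.symm)
    exact ⟨NatIso.ofComponents (fun K => ObjectProperty.isoMk _ (cc'.app K.obj))
      fun g => ObjectProperty.hom_ext _ (cc'.hom.naturality g.hom)⟩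
  let adj : DCoh.RpushQ (π ≫ pc) hπ ⊣ b ⋙ ah := (adjh.comp adjg).ofNatIsoLeft e
  obtain ⟨e₁⟩ := nonempty_iso_of_dominate pc hc adjc (π ≫ pc) hπ adj π rfl jc j hjπ
  obtain ⟨N, hN⟩ := exists_rightAdjoint_bound pg hg b adjg
  let L : (Dual3.IsBddBelowQ Z).FullSubcategory ⥤ (Dual3.IsBddBelowQ Yg).FullSubcategory :=
    ObjectProperty.lift _ (Dual3.bddι Z ⋙ b) fun K => by
      obtain ⟨c, hc⟩ := K.property
      haveI : K.obj.obj.IsGE c := hc
      exact ⟨c - 1 - N + 1, (DerivedCategory.isGE_iff _ _).2 fun i hi =>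
        hN K.obj (c - 1) (fun n hn => DerivedCategory.isZero_of_isGE K.obj.obj c n (by omega)) i (by omega)⟩
  let L' : (Dual3.IsBddBelowQ Yg).FullSubcategory ⥤ (Dual3.IsBddBelowQ Y).FullSubcategory :=
    ObjectProperty.lift _ (Dual3.bddι Yg ⋙ ShriekSupp7.restrictQ jg) fun K => by
      obtain ⟨c, hc⟩ := K.property
      haveI : K.obj.obj.IsGE c := hc
      exact ⟨c, (DerivedCategory.isGE_iff _ _).2 fun i hi =>
        (Functor.map_isZero (Scheme.Modules.restrictFunctor jg)
          (DerivedCategory.isZero_of_isGE K.obj.obj c i hi)).of_iso (restrictHDIso jg K.obj.obj i)⟩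
  obtain ⟨e₂⟩ := nonempty_rightAdjoint_restrict h hh adjh jg k hk q Limits.pullback.condition hq adjq
  obtain ⟨e₃⟩ := nonempty_shriek_indep q hq adjq pf hf adjf j' jf hj'q
  obtain ⟨r⟩ : Nonempty (rho j ≅ rho k ⋙ rho j') :=
    RHomO7.nonempty_iso_of_Q (rhoQ j ≪≫ Functor.isoWhiskerRight
      (NatIso.mapHomologicalComplex ((Scheme.Modules.restrictFunctorCongr hj'k).symm ≪≫
        Scheme.Modules.restrictFunctorComp j' k) (ComplexShape.up ℤ) ≪≫
        (Functor.mapHomologicalComplexCompIso (Iso.refl _) (ComplexShape.up ℤ)).symm)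
      DerivedCategory.Q ≪≫ Functor.associator _ _ _ ≪≫ (rhoQ₂ j' k).symm)
  exact ⟨e₁ ≪≫ Functor.isoWhiskerLeft (Dual3.bddι Z ⋙ b ⋙ ah ⋙ ObjectProperty.ι _) r ≪≫
    Functor.isoWhiskerLeft L (Functor.isoWhiskerRight e₂ (rho j')) ≪≫
    Functor.isoWhiskerLeft (L ⋙ L') e₃⟩

end Groth.Agent.ShriekIndep7
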