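import Groth.Agent.ShriekSupp7.Unbounded
import Groth.Agent.ShriekTensor7.Triangulated

/-!
# Objects local for an open, and objects with disjoint supports
-/

set_option linter.style.haveILetI false
set_option backward.isDefEq.respectTransparency false
set_option backward.isDefEq.respectTransparency.types false

universe u

open CategoryTheory CategoryTheory.Limits AlgebraicGeometry Pretriangulated

attribute [local instance] HasDerivedCategory.standard

namespace Groth.Agent.ShriekIndep7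

open Groth.Agent.KFlatLib Groth.Agent.PerfGen7

variable {X Z : Scheme.{u}}

/-- Restriction to an open disjoint from the image kills `Rj_*`. -/
theorem isZero_rho_rpush_of_disjoint (j : X ⟶ Z) [QuasiCompact j] [QuasiSeparated j] [DCoh.HasRpush j]
    (W : Z.Opens) (hW : ∀ x : X, j.base x ∉ W) (A : DCoh.D X) :
    IsZero ((rho W.ι).obj ((DCoh.Rpush j).obj A)) := by
  haveI := hasRpush_scheme (j ∣_ W)
  obtain ⟨e⟩ := nonempty_rpush_restrictD_iso j W
  haveI := PerfGen7.rpush_additive (j ∣_ W)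
  have hz : IsZero ((rho (j ⁻¹ᵁ W).ι).obj A) :=
    isZero_of_supp_empty (supp_iff.2 fun x _ i => absurd x.2 (hW x.1))
  exact ((DCoh.Rpush (j ∣_ W)).map_isZero hz).of_iso (e.app A)

/-- Morphisms between objects supported on disjoint open and closed pieces vanish. -/
theorem eq_zero_of_disjoint [IsNoetherian Z] (U U' : Z.Opens) (hd : Disjoint (U : Set Z) (U' : Set Z))
    (hc : (U : Set Z) ∪ U' = Set.univ) {T E : DCoh.D Z} (hT : IsZero ((rho U'.ι).obj T))
    (hE : IsZero ((rho U.ι).obj E)) (g : T ⟶ E) : g = 0 := by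
  haveI : CompactSpace (U' : Z.Opens) :=
    isCompact_iff_compactSpace.1 (TopologicalSpace.NoetherianSpace.isCompact (U' : Set Z))
  haveI : QuasiCompact U'.ι := ShriekSupp7.quasiCompact_ι U'
  haveI := hasRpush_scheme U'.ι
  let η := (adjR U'.ι).unit
  haveI : IsIso (η.app E) := by
    obtain ⟨C, p, d, hC, hCs⟩ := exists_unit_triangle U'.ι E
    refine (Triangle.isZero₃_iff_isIso₁ _ hC).1 (isZero_of_supp_empty fun i x hx => ?_)
    have hxU : x ∈ U := by
      have : x ∈ (U : Set Z) ∪ U' := hc ▸ trivial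
      refine this.resolve_right fun h => hCs i hx ?_
      rw [Scheme.Opens.range_ι]; exact h
    have h2 : IsZero ((rho U.ι).obj ((DCoh.Rpush U'.ι).obj ((rho U'.ι).obj E))) :=
      isZero_rho_rpush_of_disjoint U'.ι U (fun y hy => Set.disjoint_left.1 hd hy y.2) _
    have h3 : IsZero ((rho U.ι).obj C) :=
      Triangle.isZero₃_of_isZero₁₂ _ ((rho U.ι).map_distinguished _ hC) hE h2
    exact absurd ((isZero_rho_iff U.ι C).1 h3 i hx) (not_not.2 (by rw [Scheme.Opens.range_ι]; exact hxU))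
  have h : g ≫ η.app E = 0 := by
    rw [show g ≫ η.app E = η.app T ≫ (DCoh.Rpush U'.ι).map ((rho U'.ι).map g) from η.naturality g,
      hT.eq_of_src ((rho U'.ι).map g) 0, Functor.map_zero, comp_zero]
  exact (cancel_mono (η.app E)).1 (h.trans zero_comp.symm)

/-- Objects receiving no morphism from objects vanishing on `V`. -/
def Loc (V : Z.Opens) (E : DCoh.D Z) : Prop :=
  ∀ A : DCoh.D Z, DCoh.IsQCohD A → IsZero ((rho V.ι).obj A) → ∀ φ : A ⟶ E, φ = 0

theorem loc_shift {V : Z.Opens} {E : DCoh.D Z} (h : Loc V E) (n : ℤ) : Loc V (E⟦n⟧) := fun A hA hz φ => by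
  obtain ⟨ψ, hψ⟩ := (shiftFunctor (DCoh.D Z) n).map_surjective
    (((shiftFunctorCompIsoId (DCoh.D Z) (-n) n (by omega)).app A).hom ≫ φ)
  have h0 : ψ = 0 := h _ (KFlatLib.isQCohD_shift hA (-n))
    (((shiftFunctor _ (-n)).map_isZero hz).of_iso (((rho V.ι).commShiftIso (-n)).app A)) ψ
  rw [h0, Functor.map_zero] at hψ
  exact (cancel_epi ((shiftFunctorCompIsoId (DCoh.D Z) (-n) n (by omega)).app A).hom).1
    (hψ.symm.trans comp_zero.symm)

theorem loc_obj₃ {V : Z.Opens} {T : Triangle (DCoh.D Z)} (hT : T ∈ distTriang _)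
    (h₁ : Loc V T.obj₁) (h₂ : Loc V T.obj₂) : Loc V T.obj₃ := fun A hA hz φ => by
  obtain ⟨ψ, hψ⟩ := Triangle.coyoneda_exact₃ _ hT φ (loc_shift h₁ 1 A hA hz _)
  rw [hψ, h₂ A hA hz ψ]
  exact zero_comp

/-- On local objects, morphisms are determined on the open. -/
theorem eq_zero_of_rho_eq_zero [IsNoetherian Z] {V : Z.Opens} {T E : DCoh.D Z} (hE : Loc V E)
    (hEq : DCoh.IsQCohD E) (g : T ⟶ E) (h : (rho V.ι).map g = 0) : g = 0 := by
  haveI : CompactSpace (V : Z.Opens) :=
    isCompact_iff_compactSpace.1 (TopologicalSpace.NoetherianSpace.isCompact (V : Set Z))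
  haveI : QuasiCompact V.ι := ShriekSupp7.quasiCompact_ι V
  haveI := hasRpush_scheme V.ι
  let η := (adjR V.ι).unit
  obtain ⟨C, p, d, hC, hCs⟩ := exists_unit_triangle V.ι E
  have hCq : DCoh.IsQCohD C := KFlatLib.isQCohD_obj₃ hC hEq
    (KFlatLib.isQCohD_rpush V.ι (KFlatLib.isQCohD_rho V.ι hEq))
  have hd : d = 0 := loc_shift hE 1 C hCq ((isZero_rho_iff V.ι C).2 hCs) d
  haveI : Mono (η.app E) := Triangle.mono₁ _ hC hd
  refine (cancel_mono (η.app E)).1 ?_
  rw [show g ≫ η.app E = η.app T ≫ (DCoh.Rpush V.ι).map ((rho V.ι).map g) from η.naturality g, h,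
    Functor.map_zero, comp_zero, zero_comp]

/-- In a local situation with `U` open and closed in `V`. -/
theorem eq_zero_of_clopen [IsNoetherian Z] {V U U' : Z.Opens} (hUU' : Disjoint (U : Set Z) (U' : Set Z))
    (hV : (V : Set Z) = (U : Set Z) ∪ U') {T E : DCoh.D Z}
    (hT : IsZero ((rho U'.ι).obj T)) (hE0 : IsZero ((rho U.ι).obj E)) (hE : Loc V E)
    (hEq : DCoh.IsQCohD E) (g : T ⟶ E) : g = 0 := by
  haveI : IsLocallyNoetherian V.toScheme := isLocallyNoetherian_of_isOpenImmersion V.ι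
  haveI : CompactSpace (V : Z.Opens) :=
    isCompact_iff_compactSpace.1 (TopologicalSpace.NoetherianSpace.isCompact (V : Set Z))
  haveI : IsNoetherian V.toScheme := {}
  refine eq_zero_of_rho_eq_zero hE hEq g (eq_zero_of_disjoint (V.ι ⁻¹ᵁ U) (V.ι ⁻¹ᵁ U')
    (hUU'.preimage _) ?_ ?_ ?_ _)
  · ext x
    simp only [Set.mem_univ, iff_true]
    exact hV.le x.2
  · refine (isZero_rho_iff _ _).2 ?_
    rw [Scheme.Opens.range_ι]
    have := ((isZero_rho_iff U'.ι T).1 hT).rho V.ι
    rw [Scheme.Opens.range_ι] at this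
    exact this
  · refine (isZero_rho_iff _ _).2 ?_
    rw [Scheme.Opens.range_ι]
    have := ((isZero_rho_iff U.ι E).1 hE0).rho V.ι
    rw [Scheme.Opens.range_ι] at this
    exact this

end Groth.Agent.ShriekIndep7
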